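import Mathlib.FieldTheory.Galois.Infinite
import Mathlib.FieldTheory.Galois.Profinite

set_option autoImplicit false
universe u

open Pointwise

namespace Groth.Agent.InertInv

variable {K L : Type u} [Field K] [Field L] [Algebra K L] [IsGalois K L]

theorem isOpen_setOf_apply (P : L → Prop) (b : L) : IsOpen {σ : L ≃ₐ[K] L | P (σ b)} := by
  rw [isOpen_iff_forall_mem_open]
  intro σ hσ
  haveI : FiniteDimensional K (IntermediateField.adjoin K {b}) :=
    IntermediateField.adjoin.finiteDimensional (Algebra.IsIntegral.isIntegral b)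
  refine ⟨σ • ((IntermediateField.adjoin K {b}).fixingSubgroup : Set (L ≃ₐ[K] L)), ?_,
    (IntermediateField.fixingSubgroup_isOpen _).smul σ, ⟨1, Subgroup.one_mem _, mul_one σ⟩⟩
  rintro - ⟨τ, hτ, rfl⟩
  show P (σ (τ b))
  rwa [(IntermediateField.mem_fixingSubgroup_iff _ τ).1 hτ b (IntermediateField.mem_adjoin_simple_self K b)]

theorem isClosed_setOf_apply (P : L → Prop) (b : L) : IsClosed {σ : L ≃ₐ[K] L | P (σ b)} :=
  ⟨isOpen_setOf_apply (fun y => ¬ P y) b⟩

/-- If everything satisfying all of the conditions `P b` fixes `x`, finitely many of them suffice. -/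
theorem exists_finset_fix {ι : Type u} (P : ι → L → Prop) (b : ι → L) (x : L)
    (h : ∀ σ : L ≃ₐ[K] L, (∀ i, P i (σ (b i))) → σ x = x) :
    ∃ W : Finset ι, ∀ σ : L ≃ₐ[K] L, (∀ i ∈ W, P i (σ (b i))) → σ x = x := by
  have hV : IsCompact {σ : L ≃ₐ[K] L | σ x ≠ x} :=
    (isClosed_setOf_apply (fun y => y ≠ x) x).isCompact
  obtain ⟨W, hW⟩ := hV.elim_finite_subfamily_closed (fun i => {σ : L ≃ₐ[K] L | P i (σ (b i))})
    (fun i => isClosed_setOf_apply (P i) (b i))
    (Set.eq_empty_iff_forall_notMem.2 fun σ hσ => hσ.1 (h σ (Set.mem_iInter.1 hσ.2)))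
  refine ⟨W, fun σ hσ => ?_⟩
  by_contra hne
  exact Set.eq_empty_iff_forall_notMem.1 hW σ ⟨hne, Set.mem_iInter₂.2 hσ⟩

end Groth.Agent.InertInv
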