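import Groth.Agent.InertInv.Main
import Mathlib.RingTheory.RingHom.Etale
import Mathlib.RingTheory.Invariant.Defs

set_option autoImplicit false
universe u

namespace Groth.Agent.InertInv

/-- `exists_etale` for an abstract base `A` and an abstract ring of inertia invariants `C`. -/
theorem exists_etale_of_invariant (G : Type u) {R : Type u} [Group G] [Finite G] [CommRing R] [MulSemiringAction G R]
    {A C : Type u} [CommRing A] [CommRing C] [Algebra A R] [Algebra A C] [SMulCommClass G A R]
    [Algebra.IsInvariant A R G] (hA : Function.Injective (algebraMap A R)) (q : Ideal R) [q.IsPrime]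
    (j : C →ₐ[A] R) (hj : Function.Injective j)
    (hrange : ∀ r : R, r ∈ Set.range j ↔ ∀ σ : q.inertia G, σ • r = r) :
    ∃ g : C, j g ∉ q ∧ Algebra.Etale A (Localization.Away g) := by
  obtain ⟨g, hg, het⟩ := exists_etale (G := G) q
  let B := FixedPoints.subring R (q.inertia G)
  let jB : C →+* B := j.toRingHom.codRestrict B fun c => (hrange _).1 ⟨c, rfl⟩
  have hjB : Function.Bijective jB := by
    refine ⟨fun x y h => hj (congrArg (fun b : B => (b : R)) h), fun b => ?_⟩
    obtain ⟨c, hc⟩ := (hrange b.1).2 b.2
    exact ⟨c, Subtype.ext hc⟩
  let e : C ≃+* B := RingEquiv.ofBijective jB hjB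
  let aA : A →+* FixedPoints.subring R G := (algebraMap A R).codRestrict _ fun a σ => smul_algebraMap σ a
  have haA : Function.Bijective aA := by
    refine ⟨fun x y h => hA (congrArg (fun b : FixedPoints.subring R G => (b : R)) h), fun b => ?_⟩
    obtain ⟨a, ha⟩ := Algebra.IsInvariant.isInvariant (A := A) (G := G) b.1 b.2
    exact ⟨a, Subtype.ext ha⟩
  refine ⟨e.symm g, ?_, ?_⟩
  · have : j (e.symm g) = (g : R) := congrArg Subtype.val (e.apply_symm_apply g)
    rw [this]; exact hg
  · have hmap : (Submonoid.powers (e.symm g)).map e.toMonoidHom = Submonoid.powers g := by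
      rw [Submonoid.map_powers]; congr 1; exact e.apply_symm_apply g
    let E : Localization.Away (e.symm g) ≃+* Localization.Away g :=
      IsLocalization.ringEquivOfRingEquiv _ _ e hmap
    rw [← RingHom.etale_algebraMap]
    have hcomp : algebraMap A (Localization.Away (e.symm g)) = (E.symm.toRingHom.comp
        (algebraMap (FixedPoints.subring R G) (Localization.Away g))).comp aA := by
      ext a
      show algebraMap A (Localization.Away (e.symm g)) a = E.symm (algebraMap _ (Localization.Away g) (aA a))
      apply E.injective
      rw [RingEquiv.apply_symm_apply, IsScalarTower.algebraMap_apply A C (Localization.Away (e.symm g)),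
        IsScalarTower.algebraMap_apply (FixedPoints.subring R G) B (Localization.Away g)]
      refine (IsLocalization.ringEquivOfRingEquiv_eq (T := Submonoid.powers g) hmap _).trans (congrArg _ (Subtype.ext ?_))
      exact j.commutes a
    rw [hcomp]
    exact (RingHom.Etale.stableUnderComposition _ _ (RingHom.Etale.of_bijective haA)
      ((RingHom.Etale.stableUnderComposition _ _ (RingHom.etale_algebraMap.2 het)
        (RingHom.Etale.of_bijective E.symm.bijective))))

end Groth.Agent.InertInv
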