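import Groth.Agent.InertInv.Corollary
import Groth.Agent.InertInv.Compact
import Mathlib.RingTheory.Invariant.Galois
import Mathlib.RingTheory.IntegralClosure.IntegrallyClosed

set_option autoImplicit false
universe u

namespace Groth.Agent.InertInv

section level

variable {A K L : Type u} [CommRing A] [IsDomain A] [IsIntegrallyClosed A]
    [Field K] [Field L] [Algebra A K] [IsFractionRing A K] [Algebra K L] [Algebra A L] [IsScalarTower A K L]
    [IsGalois K L]

-- At a finite Galois level `E`: a localisation of a ring of inertia invariants of `E`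
set_option maxHeartbeats 1600000 in
theorem exists_level (q : Ideal (integralClosure A L)) [q.IsPrime] (I : Subgroup (L ≃ₐ[K] L))
    (hI : ∀ σ : L ≃ₐ[K] L, σ ∈ I ↔ ∀ b : integralClosure A L, ∃ c ∈ q, (c : L) = σ b - b)
    (E : FiniteGaloisIntermediateField K L) :
    ∃ (CE : Subalgebra A (integralClosure A L)) (g : CE), (g : integralClosure A L) ∉ q ∧
      Algebra.Etale A (Localization.Away g) ∧
      (∀ x : CE, ((x : integralClosure A L) : L) ∈ IntermediateField.fixedField I) ∧
      ∀ x : integralClosure A L, (x : L) ∈ E.toIntermediateField →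
        (∀ σ : L ≃ₐ[K] L, (∀ b : integralClosure A L, (b : L) ∈ E.toIntermediateField →
          ∃ c ∈ q, (c : L) = σ b - b) → σ x = x) → x ∈ CE := by
  let F : IntermediateField K L := E.toIntermediateField
  haveI : IsGalois K F := E.isGalois
  haveI : FiniteDimensional K F := E.finiteDimensional
  let R := integralClosure A F
  let act : (F ≃ₐ[K] F) →* (R ≃ₐ[A] R) :=
    { toFun := fun σ => (σ.restrictScalars A).mapIntegralClosure
      map_one' := AlgEquiv.ext fun x => Subtype.ext rfl
      map_mul' := fun σ τ => AlgEquiv.ext fun x => Subtype.ext rfl }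
  letI : MulSemiringAction (F ≃ₐ[K] F) R := MulSemiringAction.compHom R act
  have hcoe : ∀ (σ : F ≃ₐ[K] F) (r : R), ((σ • r : R) : F) = σ (r : F) := fun _ _ => rfl
  haveI : SMulCommClass (F ≃ₐ[K] F) A R := ⟨fun σ a r => map_smul (act σ) a r⟩
  haveI : IsScalarTower A F L := IsScalarTower.of_algebraMap_eq fun a => by
    first
      | rfl
      | exact (IsScalarTower.algebraMap_apply A K L a).trans rfl
  haveI : Algebra.IsInvariant A R (F ≃ₐ[K] F) := ⟨fun r hr => by
    obtain ⟨x, hx⟩ := (IsGalois.mem_range_algebraMap_iff_fixed (F := K) (r : F)).2 fun σ => by rw [← hcoe, hr]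
    have h2 : IsIntegral A x := by
      rw [← isIntegral_algebraMap_iff (B := F) (algebraMap K F).injective, hx]
      exact r.2
    obtain ⟨a, rfl⟩ := IsIntegrallyClosed.algebraMap_eq_of_integral h2
    refine ⟨a, Subtype.ext ?_⟩
    rw [← hx]
    exact IsScalarTower.algebraMap_apply A K F a⟩
  have hA : Function.Injective (algebraMap A R) := fun a b h => by
    have h1 : algebraMap A L a = algebraMap A L b := congrArg (fun r : R => ((r : F) : L)) h
    rw [IsScalarTower.algebraMap_apply A K L, IsScalarTower.algebraMap_apply A K L] at h1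
    exact IsFractionRing.injective A K ((algebraMap K L).injective h1)
  let h : R →ₐ[A] integralClosure A L := (IsScalarTower.toAlgHom A F L).mapIntegralClosure
  have hh : ∀ r : R, (h r : L) = ((r : F) : L) := fun _ => rfl
  haveI : (q.comap h.toRingHom).IsPrime := Ideal.IsPrime.comap _
  let IE := (q.comap h.toRingHom).inertia (F ≃ₐ[K] F)
  let CR : Subalgebra A R := FixedPoints.subalgebra A R IE
  obtain ⟨g, hg, het⟩ := exists_etale_of_invariant (F ≃ₐ[K] F) hA (q.comap h.toRingHom) CR.val
    (fun x y e => Subtype.ext e) fun r => ⟨by rintro ⟨c, rfl⟩; exact c.2, fun hr => ⟨⟨r, hr⟩, rfl⟩⟩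
  have hhinj : Function.Injective h := fun a b e =>
    Subtype.ext (Subtype.ext (congrArg (fun x : integralClosure A L => (x : L)) e))
  let e : CR ≃ₐ[A] CR.map h := Subalgebra.equivMapOfInjective CR h hhinj
  refine ⟨CR.map h, e g, hg, ?_, ?_, ?_⟩
  · have hmap : (Submonoid.powers g).map e.toRingEquiv.toMonoidHom = Submonoid.powers (e g) := by
      rw [Submonoid.map_powers]; rfl
    let Eq : Localization.Away g ≃+* Localization.Away (e g) :=
      IsLocalization.ringEquivOfRingEquiv _ _ e.toRingEquiv hmap
    refine Algebra.Etale.of_equiv (AlgEquiv.ofRingEquiv (f := Eq) fun a => ?_)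
    rw [IsScalarTower.algebraMap_apply A CR (Localization.Away g),
      IsScalarTower.algebraMap_apply A (CR.map h) (Localization.Away (e g))]
    exact (IsLocalization.ringEquivOfRingEquiv_eq hmap _).trans (congrArg _ (e.commutes a))
  · rintro ⟨-, r, hr, rfl⟩ ⟨σ, hσ⟩
    show σ ((h r : integralClosure A L) : L) = (h r : L)
    have hres : σ.restrictNormal F ∈ IE := fun b => by
      show h (σ.restrictNormal F • b - b) ∈ q
      obtain ⟨c, hc, hc'⟩ := (hI σ).1 hσ (h b)
      have : h (σ.restrictNormal F • b - b) = c := Subtype.ext (by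
        rw [hc', map_sub]
        show ((σ.restrictNormal F (b : F) : F) : L) - ((b : F) : L) = _
        rw [show ((σ.restrictNormal F (b : F) : F) : L) = σ ((b : F) : L) from
          AlgEquiv.restrictNormal_commutes σ F (b : F)]
        rfl)
      rw [this]; exact hc
    rw [hh, ← show ((σ.restrictNormal F (r : F) : F) : L) = σ ((r : F) : L) from
      AlgEquiv.restrictNormal_commutes σ F (r : F)]
    exact congrArg (fun x : R => ((x : F) : L)) (hr ⟨_, hres⟩)
  · intro x hxE hx
    let xF : F := ⟨(x : L), hxE⟩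
    let xR : R := ⟨xF, (isIntegral_algebraMap_iff (A := F) (B := L) fun a b e => Subtype.ext e).1 x.2⟩
    refine ⟨xR, fun τ => ?_, Subtype.ext rfl⟩
    obtain ⟨σ, hσ⟩ := AlgEquiv.restrictNormalHom_surjective (K₁ := F) (E := L) τ.1
    have hσ' : ∀ r : R, ((((τ : F ≃ₐ[K] F) • r : R) : F) : L) = σ ((r : F) : L) := fun r => by
      rw [hcoe, ← hσ]
      exact AlgEquiv.restrictNormal_commutes σ F (r : F)
    apply Subtype.ext; apply Subtype.ext
    show ((((τ : F ≃ₐ[K] F) • xR : R) : F) : L) = ((xR : F) : L)
    rw [hσ']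
    refine hx σ fun b hb => ?_
    let bR : R := ⟨⟨(b : L), hb⟩, (isIntegral_algebraMap_iff (A := F) (B := L) fun a b e => Subtype.ext e).1 b.2⟩
    refine ⟨h ((τ : F ≃ₐ[K] F) • bR - bR), τ.2 bR, ?_⟩
    rw [hh]
    show ((((τ : F ≃ₐ[K] F) • bR : R) : F) : L) - ((bR : F) : L) = _
    rw [hσ']

end level

end Groth.Agent.InertInv
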