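import Groth.Agent.InertInv.Sep
import Mathlib.RingTheory.Etale.StandardEtale

set_option autoImplicit false
universe u

open Polynomial

namespace Groth.Agent.InertInv

variable {G R : Type u} [Group G] [Finite G] [CommRing R] [MulSemiringAction G R]

theorem exists_lift_invariant (p : R[X]) (hp : ∀ σ : G, p.map (MulSemiringAction.toRingHom G R σ) = p) :
    ∃ p' : (FixedPoints.subring R G)[X], p'.map (FixedPoints.subring R G).subtype = p := by
  refine (mem_lifts p).1 ((lifts_iff_coeff_lifts p).2 fun n => ⟨⟨p.coeff n, fun σ => ?_⟩, rfl⟩)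
  simpa using congrArg (fun f : R[X] => f.coeff n) (hp σ)

set_option maxHeartbeats 1600000 in
theorem exists_etale (q : Ideal R) [q.IsPrime] :
    ∃ g : FixedPoints.subring R (q.inertia G),
      g ∉ q.comap (FixedPoints.subring R (q.inertia G)).subtype ∧
      Algebra.Etale (FixedPoints.subring R G) (Localization.Away g) := by
  classical
  obtain ⟨θ, hθI, hθ⟩ := exists_theta (G := G) q
  haveI : Finite (MulAction.orbit G θ) := (Set.finite_range fun σ : G => σ • θ).to_subtype
  haveI := Fintype.ofFinite (MulAction.orbit G θ)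
  let A := FixedPoints.subring R G
  let B := FixedPoints.subring R (q.inertia G)
  let ι : A →+* R := A.subtype
  have hι : Function.Injective ι := Subtype.val_injective
  let Py : MulAction.orbit G θ → R[X] := fun y => ∏ z ∈ Finset.univ.erase y, (X - C (z : R))
  let P : R[X] := ∏ y : MulAction.orbit G θ, (X - C (y : R))
  have hmapP : ∀ σ : G, P.map (MulSemiringAction.toRingHom G R σ) = P := fun σ => by
    simp only [P, Polynomial.map_prod, Polynomial.map_sub, map_X, map_C, MulSemiringAction.toRingHom_apply]
    exact Fintype.prod_equiv (MulAction.toPerm σ) _ _ fun y => rfl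
  have hmapPy : ∀ (σ : G) y, (Py y).map (MulSemiringAction.toRingHom G R σ) = Py (σ • y) := fun σ y => by
    simp only [Py, Polynomial.map_prod, Polynomial.map_sub, map_X, map_C, MulSemiringAction.toRingHom_apply]
    refine Finset.prod_equiv (MulAction.toPerm σ) (fun z => ?_) fun z _ => rfl
    simp [smul_left_cancel_iff]
  have hPPy : ∀ y : MulAction.orbit G θ, (X - C (y : R)) * Py y = P := fun y => Finset.mul_prod_erase _ _ (Finset.mem_univ y)
  have hder : derivative P = ∑ y, Py y := by
    simp [P, Py, derivative_prod_finset]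
  obtain ⟨Pa, hPa⟩ := exists_lift_invariant P hmapP
  have hPmon : P.Monic := monic_prod_of_monic _ _ fun y _ => monic_X_sub_C _
  have hPamon : Pa.Monic := monic_of_injective hι (hPa.symm ▸ hPmon)
  let θB : B := ⟨θ, hθI⟩
  have hev : ∀ p : A[X], ((aeval θB p : B) : R) = (p.map ι).eval θ := fun p => by
    rw [aeval_def, eval_map]
    exact hom_eval₂ p (algebraMap A B) B.subtype θB
  let gB : B := aeval θB (derivative Pa)
  let y₀ : MulAction.orbit G θ := ⟨θ, MulAction.mem_orbit_self θ⟩
  have hPy0 : ∀ y, y ≠ y₀ → (Py y).eval θ = 0 := fun y hy => by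
    rw [eval_prod]
    exact Finset.prod_eq_zero (i := y₀) (Finset.mem_erase.2 ⟨hy.symm, Finset.mem_univ _⟩) (by simp [y₀])
  have hgB : (gB : R) = (Py y₀).eval θ := by
    show ((aeval θB (derivative Pa) : B) : R) = _
    rw [hev, ← derivative_map, hPa, hder, eval_finsetSum]
    exact Finset.sum_eq_single y₀ (fun y _ hy => hPy0 y hy) (fun h => absurd (Finset.mem_univ _) h)
  refine ⟨gB, fun h => ?_, ?_⟩
  · change (gB : R) ∈ q at h
    rw [hgB, eval_prod] at h
    obtain ⟨y, hy, hyq⟩ := (Ideal.IsPrime.prod_mem_iff (p := q)).1 h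
    obtain ⟨σ, hσ⟩ := y.2
    have hσI : σ ∉ q.inertia G := fun hI => (Finset.mem_erase.1 hy).1
      (Subtype.ext (hσ.symm.trans (hθI ⟨σ, hI⟩)))
    refine hθ σ hσI ?_
    rw [eval_sub, eval_X, eval_C] at hyq
    rw [show σ • θ = (y : R) from hσ, ← neg_sub]
    exact q.neg_mem hyq
  let Pr : StandardEtalePair A :=
    { f := Pa, monic_f := hPamon, g := derivative Pa, cond := ⟨1, 0, 1, by rw [mul_one, mul_zero, add_zero, pow_one]⟩ }
  let xS : Localization.Away gB := algebraMap B (Localization.Away gB) θB
  have hmapS : ∀ p : A[X], aeval xS p = algebraMap B (Localization.Away gB) (aeval θB p) := fun p =>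
    aeval_algebraMap_apply _ _ _
  have hPθ : aeval θB Pa = 0 := Subtype.ext (by
    rw [hev, hPa, ← hPPy y₀]; simp [y₀])
  have hx : Pr.HasMap xS := by
    refine ⟨?_, ?_⟩
    · rw [hmapS]; show algebraMap B _ (aeval θB Pa) = 0; rw [hPθ, map_zero]
    · rw [hmapS]; exact IsLocalization.Away.algebraMap_isUnit gB
  have hu : IsUnit (aeval Pr.X (derivative Pa)) := StandardEtalePair.hasMap_X.2
  have hlift : ∀ p : A[X], Pr.lift xS hx (aeval Pr.X p) = algebraMap B (Localization.Away gB) (aeval θB p) :=
    fun p => by rw [← aeval_algHom_apply, StandardEtalePair.lift_X, hmapS]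
  have hbij : Function.Bijective (Pr.lift xS hx) := by
    constructor
    · rw [injective_iff_map_eq_zero]
      intro s hs
      let PP : StandardEtalePresentation A Pr.Ring :=
        { P := Pr, x := Pr.X, hasMap := StandardEtalePair.hasMap_X,
          lift_bijective := by
            have h := StandardEtalePair.lift_X_left Pr
            rw [h]; exact Function.bijective_id }
      obtain ⟨p, n, hp⟩ : ∃ (p : A[X]) (n : ℕ), s * aeval Pr.X (derivative Pa) ^ n = aeval Pr.X p :=
        PP.exists_mul_aeval_x_g_pow_eq_aeval_x s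
      have h0 : algebraMap B (Localization.Away gB) (aeval θB p) = 0 := by
        rw [← hlift, ← hp, map_mul, hs, zero_mul]
      obtain ⟨⟨-, N, rfl⟩, hN⟩ := (IsLocalization.map_eq_zero_iff (Submonoid.powers gB) _ _).1 h0
      let u : R[X] := (p * derivative Pa ^ N).map ι
      have huy : ∀ y : MulAction.orbit G θ, u.IsRoot (y : R) := by
        intro y
        obtain ⟨σ, hσ⟩ := y.2
        have e0 : u.eval θ = 0 := by
          have := congrArg (fun b : B => (b : R)) hN
          rw [← hev, map_mul, map_pow, mul_comm]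
          exact this
        have e1 : u.map (MulSemiringAction.toRingHom G R σ) = u := by
          simp only [u, Polynomial.map_map]
          congr 1
          ext a
          exact a.2 σ
        rw [IsRoot, ← show σ • θ = (y : R) from hσ, ← e1, eval_map]
        have := congrArg (MulSemiringAction.toRingHom G R σ) e0
        rw [← eval₂_at_apply, map_zero] at this
        exact this
      have hdvd : P ∣ u * derivative P := by
        rw [hder, Finset.mul_sum]
        refine Finset.dvd_sum fun y _ => ?_
        rw [← hPPy y]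
        exact mul_dvd_mul_right (dvd_iff_isRoot.2 (huy y)) _
      have hdvd' : Pa ∣ p * derivative Pa ^ N * derivative Pa := by
        rw [← Polynomial.map_dvd_map ι hι hPamon, Polynomial.map_mul, hPa, ← derivative_map Pa ι, hPa]
        exact hdvd
      obtain ⟨r, hr⟩ := hdvd'
      have h1 := congrArg (aeval Pr.X) hr
      have hf0 : aeval Pr.X Pa = 0 := StandardEtalePair.hasMap_X.1
      rw [map_mul, map_mul, map_mul, map_pow, hf0, zero_mul, ← hp] at h1
      exact (((hu.pow n).mul_left_eq_zero).1 (((hu.pow N).mul_left_eq_zero).1 (hu.mul_left_eq_zero.1 h1)))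
    · intro z
      obtain ⟨⟨x, ⟨-, N, rfl⟩⟩, hz⟩ := IsLocalization.surj (Submonoid.powers gB) z
      -- interpolation
      have hwd : ∀ σ τ : G, σ • θ = τ • θ → σ • (x : R) = τ • (x : R) := fun σ τ e => by
        have hmem : τ⁻¹ * σ ∈ q.inertia G := by
          by_contra hn
          refine hθ _ hn ?_
          rw [mul_smul, e, inv_smul_smul, sub_self]; exact q.zero_mem
        have := x.2 ⟨_, hmem⟩
        calc σ • (x : R) = τ • ((τ⁻¹ * σ) • (x : R)) := by rw [← mul_smul, mul_inv_cancel_left]
          _ = τ • (x : R) := by rw [show (τ⁻¹ * σ) • (x : R) = x from this]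
      choose ch hch using fun y : MulAction.orbit G θ => y.2
      let ξ : MulAction.orbit G θ → R := fun y => ch y • (x : R)
      let Q : R[X] := ∑ y, C (ξ y) * Py y
      have hQ : ∀ σ : G, Q.map (MulSemiringAction.toRingHom G R σ) = Q := fun σ => by
        simp only [Q, Polynomial.map_sum, Polynomial.map_mul, map_C, hmapPy, MulSemiringAction.toRingHom_apply]
        refine Fintype.sum_equiv (MulAction.toPerm σ) _ _ fun y => ?_
        congr 2
        show σ • ch y • (x : R) = ch (σ • y) • (x : R)
        rw [← mul_smul]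
        exact hwd _ _ (by rw [mul_smul]; exact ((congrArg (σ • ·) (hch y)).trans (hch (σ • y)).symm))
      obtain ⟨Qa, hQa⟩ := exists_lift_invariant Q hQ
      have hQθ : aeval θB Qa = x * gB := by
        apply Subtype.ext
        rw [hev, hQa, eval_finsetSum, Finset.sum_eq_single y₀ (fun y _ hy => by simp [hPy0 y hy])
          (fun h => absurd (Finset.mem_univ _) h), eval_mul, eval_C, ← hgB]
        have : ch y₀ • (x : R) = (1 : G) • (x : R) := hwd _ _ (by rw [one_smul]; exact hch y₀)
        simp [ξ, this]
      refine ⟨aeval Pr.X Qa * (↑(hu.unit⁻¹) : Pr.Ring) ^ (N + 1), ?_⟩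
      have hgu : IsUnit (algebraMap B (Localization.Away gB) gB) := IsLocalization.Away.algebraMap_isUnit gB
      refine (hgu.pow (N + 1)).mul_right_cancel ?_
      have hinv : Pr.lift xS hx ↑(hu.unit⁻¹) * algebraMap B (Localization.Away gB) gB = 1 := by
        rw [← hlift, ← map_mul, IsUnit.val_inv_mul, map_one]
      rw [map_mul, map_pow, hlift, hQθ, mul_assoc, ← mul_pow, hinv, one_pow, mul_one, map_mul, pow_succ,
        ← mul_assoc z, ← hz, map_pow]
  haveI : Algebra.IsStandardEtale A (Localization.Away gB) := ⟨⟨⟨Pr, xS, hx, hbij⟩⟩⟩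
  infer_instance

end Groth.Agent.InertInv
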