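import Mathlib.RingTheory.Etale.Basic
import Mathlib.RingTheory.QuasiFinite.Basic
import Mathlib.RingTheory.Localization.AtPrime.Basic
import Mathlib.RingTheory.Localization.Away.Basic

set_option autoImplicit false
universe u

namespace Groth.Agent.InertInv

/-- With finitely many primes, a local ring is a principal localization. -/
theorem exists_away_atPrime {R : Type u} [CommRing R] [Finite (PrimeSpectrum R)] (m : Ideal R) [m.IsPrime] :
    ∃ b : R, b ∉ m ∧ ∀ (S : Type u) [CommRing S] [Algebra R S] (c : R), c ∉ m →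
      IsLocalization.Away (c * b) S → IsLocalization.AtPrime S m := by
  classical
  haveI := Fintype.ofFinite (PrimeSpectrum R)
  let T := Finset.univ.filter fun p : PrimeSpectrum R => ¬ p.asIdeal ≤ m
  have hch : ∀ p ∈ T, ∃ x ∈ p.asIdeal, x ∉ m := fun p hp => SetLike.not_le_iff_exists.1 (Finset.mem_filter.1 hp).2
  choose! x hx hxm using hch
  have hb : (∏ p ∈ T, x p) ∉ m := fun hb => by
    obtain ⟨p, hp, hpm⟩ := (Ideal.IsPrime.prod_mem_iff (p := m)).1 hb
    exact hxm p hp hpm
  refine ⟨_, hb, fun S _ _ c hc hloc => ?_⟩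
  have hcb : c * (∏ p ∈ T, x p) ∈ m.primeCompl := fun h => (Ideal.IsPrime.mem_or_mem ‹_› h).elim hc hb
  refine IsLocalization.of_le (Submonoid.powers (c * ∏ p ∈ T, x p)) m.primeCompl
    (Submonoid.powers_le.2 hcb) fun s hs => ?_
  by_contra hnu
  obtain ⟨P, hP, hsP⟩ := exists_max_ideal_of_mem_nonunits hnu
  let p : PrimeSpectrum R := ⟨P.comap (algebraMap R _), Ideal.IsPrime.comap _⟩
  by_cases hle : p.asIdeal ≤ m
  · exact hs (hle hsP)
  · have hp : p ∈ T := Finset.mem_filter.2 ⟨Finset.mem_univ _, hle⟩
    have h1 : algebraMap R S (c * ∏ p ∈ T, x p) ∈ P :=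
      Ideal.mem_comap.1 (p.asIdeal.mul_mem_left c
        (Ideal.mem_of_dvd p.asIdeal (Finset.dvd_prod_of_mem x hp) (hx p hp)))
    exact hP.ne_top (Ideal.eq_top_of_isUnit_mem _ h1
      (IsLocalization.map_units (M := Submonoid.powers (c * ∏ p ∈ T, x p)) S ⟨_, Submonoid.mem_powers _⟩))

theorem etale_atPrime_of_away {A R : Type u} [CommRing A] [CommRing R] [Algebra A R] [Finite (PrimeSpectrum R)]
    (m : Ideal R) [m.IsPrime] (g : R) (hg : g ∉ m) (h : Algebra.Etale A (Localization.Away g)) :
    Algebra.Etale A (Localization.AtPrime m) := by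
  obtain ⟨b, -, hb'⟩ := exists_away_atPrime m
  let S := Localization.Away g
  let T := Localization.Away (algebraMap R S b)
  haveI : IsLocalization.Away (g * b) T := IsLocalization.Away.mul' S T g b
  haveI : IsLocalization.AtPrime T m := hb' T g hg inferInstance
  haveI : Algebra.Etale S T := Algebra.Etale.of_isLocalizationAway (algebraMap R S b)
  haveI : Algebra.Etale A T := Algebra.Etale.comp A S T
  exact Algebra.Etale.of_equiv
    ((IsLocalization.algEquiv m.primeCompl T (Localization.AtPrime m)).restrictScalars A)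

theorem finite_primeSpectrum {A R : Type u} [CommRing A] [CommRing R] [Algebra A R] [Module.Finite A R]
    [Finite (PrimeSpectrum A)] : Finite (PrimeSpectrum R) := by
  rw [← Set.finite_univ_iff]
  refine (Set.finite_iUnion fun P : PrimeSpectrum A => Algebra.QuasiFinite.finite_comap_preimage_singleton (R := A) (S := R) P).subset ?_
  exact fun p _ => Set.mem_iUnion.2 ⟨_, rfl⟩

end Groth.Agent.InertInv
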