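import Groth.Prelude.Def_Pi1
import Mathlib.RingTheory.Ideal.Pointwise
import Mathlib.Algebra.CharP.Lemmas
import Mathlib.Algebra.Polynomial.Expand
import Mathlib.RingTheory.Polynomial.Basic
import Mathlib.FieldTheory.Finite.Basic

set_option autoImplicit false
universe u

open Polynomial Pointwise

namespace Groth.Agent.InertInv

variable {G R : Type u} [Group G] [Finite G] [CommRing R] [MulSemiringAction G R] (q : Ideal R) [q.IsPrime]

omit [Finite G] in
theorem mem_inertia_iff (σ : G) : σ ∈ q.inertia G ↔ ∀ x : R, σ • x - x ∈ q := Iff.rfl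

omit [Finite G] [q.IsPrime] in
theorem mem_stab_iff (σ : G) (h : σ ∈ MulAction.stabilizer G q) (x : R) : σ • x ∈ q ↔ x ∈ q := by
  have h' : σ • q = q := h
  conv_lhs => rw [← h']
  exact Ideal.smul_mem_pointwise_smul_iff

/-- The norm-like invariant of `x`: an element invariant under inertia congruent to `m * x ^ N`. -/
theorem exists_inv_cong :
    ∃ m N : ℕ, (m : R ⧸ q) ≠ 0 ∧ Function.Injective (fun x : R ⧸ q => x ^ N) ∧
      ∀ x : R, ∃ y ∈ FixedPoints.subring R (q.inertia G),
        Ideal.Quotient.mk q y = m * Ideal.Quotient.mk q x ^ N := by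
  classical
  haveI := Fintype.ofFinite (q.inertia G)
  obtain ⟨p, hp⟩ := ExpChar.exists (R ⧸ q)
  obtain ⟨a, m, hm, hcard⟩ : ∃ a m : ℕ, (m : R ⧸ q) ≠ 0 ∧ Fintype.card (q.inertia G) = p ^ a * m := by
    cases hp with
    | zero => exact ⟨0, _, Nat.cast_ne_zero.2 Fintype.card_ne_zero, by rw [pow_zero, one_mul]⟩
    | prime hpp =>
      obtain ⟨a, m, hm, hc⟩ := Nat.exists_eq_pow_mul_and_not_dvd
        (Fintype.card_ne_zero (α := q.inertia G)) p hpp.ne_one
      exact ⟨a, m, fun h => hm ((CharP.cast_eq_zero_iff (R ⧸ q) p m).1 h), hc⟩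
  refine ⟨m, p ^ a, hm, iterateFrobenius_inj (R ⧸ q) p a, fun x => ?_⟩
  let P : R[X] := ∏ τ : q.inertia G, (X - C (τ • x))
  have hP : ∀ τ₀ : q.inertia G, P.map (MulSemiringAction.toRingHom _ R τ₀) = P := fun τ₀ => by
    simp only [P, Polynomial.map_prod, Polynomial.map_sub, map_X, map_C, MulSemiringAction.toRingHom_apply,
      ← mul_smul]
    exact Fintype.prod_equiv (Equiv.mulLeft τ₀) _ _ fun τ => rfl
  have hm1 : 1 ≤ m := by
    rcases Nat.eq_zero_or_pos m with h | h
    · exact absurd (by rw [h, Nat.cast_zero]) hm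
    · exact h
  refine ⟨-P.coeff ((m - 1) * p ^ a), fun τ₀ => ?_, ?_⟩
  · have := congrArg (fun f : R[X] => f.coeff ((m - 1) * p ^ a)) (hP τ₀)
    simp only [coeff_map, MulSemiringAction.toRingHom_apply] at this
    rw [smul_neg, this]
  · have h1 : P.map (Ideal.Quotient.mk q) =
        expand (R ⧸ q) (p ^ a) ((X - C (Ideal.Quotient.mk q x ^ p ^ a)) ^ m) := by
      have e : ∀ τ : q.inertia G, Ideal.Quotient.mk q (τ • x) = Ideal.Quotient.mk q x := fun τ =>
        (Ideal.Quotient.eq).2 (τ.2 x)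
      simp only [P, Polynomial.map_prod, Polynomial.map_sub, map_X, map_C, e, Finset.prod_const, Finset.card_univ]
      rw [hcard, pow_mul, sub_pow_expChar_pow, map_pow, map_sub, expand_X, expand_C, map_pow]
    have hq : Ideal.Quotient.mk q (P.coeff ((m - 1) * p ^ a)) = -(m * Ideal.Quotient.mk q x ^ p ^ a) := by
      rw [← coeff_map, h1, coeff_expand_mul (pow_pos (expChar_pos (R ⧸ q) p) a), sub_eq_add_neg X, ← C_neg,
        coeff_X_add_C_pow, Nat.sub_sub_self hm1, pow_one, Nat.choose_symm hm1, Nat.choose_one_right]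
      ring
    rw [map_neg, hq, neg_neg]

/-- Outside inertia, inside the decomposition group, some inertia-invariant is moved modulo `q`. -/
theorem exists_moved {σ : G} (hσ : σ ∈ MulAction.stabilizer G q) (hσ' : σ ∉ q.inertia G) :
    ∃ y ∈ FixedPoints.subring R (q.inertia G), σ • y - y ∉ q := by
  obtain ⟨m, N, hm, hN, hy⟩ := exists_inv_cong (G := G) q
  obtain ⟨x, hx⟩ := not_forall.1 fun h => hσ' ((mem_inertia_iff q σ).2 h)
  obtain ⟨y, hy1, hy2⟩ := hy x
  refine ⟨y, hy1, fun h => hx ?_⟩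
  have key : ∀ z w : R, Ideal.Quotient.mk q z = Ideal.Quotient.mk q w →
      Ideal.Quotient.mk q (σ • z) = Ideal.Quotient.mk q (σ • w) := fun z w e => by
    rw [Ideal.Quotient.eq, ← smul_sub, mem_stab_iff q σ hσ]
    exact Ideal.Quotient.eq.1 e
  have h2 : Ideal.Quotient.mk q (σ • y) = m * Ideal.Quotient.mk q (σ • x) ^ N := by
    rw [key y (m * x ^ N) (by rw [hy2, map_mul, map_natCast, map_pow]), smul_mul', smul_pow']
    rw [map_mul, map_pow]
    congr 1
    rw [show σ • (m : R) = m from map_natCast (MulSemiringAction.toRingHom G R σ) m, map_natCast]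
  rw [← Ideal.Quotient.eq, h2, hy2] at h
  exact Ideal.Quotient.eq.1 (hN (mul_left_cancel₀ hm h))

/-- An element invariant under the decomposition group, outside `q`, in all other conjugates of `q`. -/
theorem exists_e : ∃ e : R, e ∉ q ∧ (∀ δ ∈ MulAction.stabilizer G q, δ • e = e) ∧
    ∀ σ : G, σ ∉ MulAction.stabilizer G q → σ • e ∈ q := by
  classical
  haveI := Fintype.ofFinite G
  have h1 : ∀ σ : G, σ ∉ MulAction.stabilizer G q → ∃ x, σ • x ∈ q ∧ x ∉ q := by
    intro σ hσ
    by_contra hn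
    push Not at hn
    have h0 : σ⁻¹ • q ≤ q := fun x hx => hn x (Ideal.mem_inv_pointwise_smul_iff.1 hx)
    have h2 : ∀ n : ℕ, (σ⁻¹) ^ (n + 1) • q ≤ σ⁻¹ • q := by
      intro n
      induction n with
      | zero => rw [zero_add, pow_one]
      | succ n ih =>
        rw [pow_succ', mul_smul]
        exact Ideal.pointwise_smul_le_pointwise_smul_iff.2 (ih.trans h0)
    obtain ⟨n, hn'⟩ : ∃ n, orderOf σ⁻¹ = n + 1 := ⟨orderOf σ⁻¹ - 1, (Nat.succ_pred_eq_of_pos (orderOf_pos _)).symm⟩
    have h3 := h2 n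
    rw [← hn', pow_orderOf_eq_one, one_smul] at h3
    have he : σ⁻¹ • q = q := le_antisymm h0 h3
    exact hσ ((Subgroup.inv_mem_iff _).1 he)
  choose f hf hfq using h1
  let e₀ : R := ∏ σ : G, if h : σ ∈ MulAction.stabilizer G q then 1 else f σ h
  have he0 : e₀ ∉ q := fun h => by
    obtain ⟨σ, -, hσ⟩ := (Ideal.IsPrime.prod_mem_iff (p := q)).1 h
    split_ifs at hσ with hσ'
    · exact Ideal.IsPrime.ne_top' (q.eq_top_iff_one.2 hσ)
    · exact hfq σ hσ' hσ
  have he1 : ∀ σ : G, σ ∉ MulAction.stabilizer G q → σ • e₀ ∈ q := fun σ hσ => by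
    simp only [e₀, Finset.smul_prod']
    refine Ideal.prod_mem (i := σ) _ (Finset.mem_univ _) ?_
    rw [dif_neg hσ]
    exact hf σ hσ
  haveI := Fintype.ofFinite (MulAction.stabilizer G q)
  refine ⟨∏ δ : MulAction.stabilizer G q, δ • e₀, fun h => ?_, fun δ₀ hδ₀ => ?_, fun σ hσ => ?_⟩
  · obtain ⟨δ, -, hδ⟩ := (Ideal.IsPrime.prod_mem_iff (p := q)).1 h
    exact he0 ((mem_stab_iff q δ.1 δ.2 e₀).1 hδ)
  · rw [Finset.smul_prod']
    refine Fintype.prod_equiv (Equiv.mulLeft ⟨δ₀, hδ₀⟩) _ _ fun δ => ?_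
    show δ₀ • (δ : G) • e₀ = (δ₀ * δ.1) • e₀
    rw [mul_smul]
  · rw [Finset.smul_prod']
    refine Ideal.prod_mem (i := 1) _ (Finset.mem_univ _) ?_
    rw [one_smul]
    exact he1 σ hσ

/-- An inertia-invariant outside `q` moved modulo `q` by all of `D ∖ I`. -/
theorem exists_theta0 : ∃ θ : R, θ ∈ FixedPoints.subring R (q.inertia G) ∧ θ ∉ q ∧
    ∀ σ ∈ MulAction.stabilizer G q, σ ∉ q.inertia G → σ • θ - θ ∉ q := by
  classical
  haveI := Fintype.ofFinite G
  haveI := Fintype.ofFinite (MulAction.stabilizer G q)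
  let π := Ideal.Quotient.mk q
  rcases finite_or_infinite (R ⧸ q) with hfin | hinf
  · -- finite residue field: a generator of the multiplicative group
    haveI := Fintype.ofFinite (R ⧸ q)
    letI : Field (R ⧸ q) := Fintype.fieldOfDomain (R ⧸ q)
    obtain ⟨g, hg⟩ := IsCyclic.exists_generator (α := (R ⧸ q)ˣ)
    obtain ⟨m, N, hm, hN, hy⟩ := exists_inv_cong (G := G) q
    obtain ⟨z, hz⟩ := (Finite.injective_iff_surjective.1 hN) ((g : R ⧸ q) / m)
    obtain ⟨x, rfl⟩ := Ideal.Quotient.mk_surjective z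
    obtain ⟨θ, hθI, hθ⟩ := hy x
    have hθg : π θ = g := by
      show Ideal.Quotient.mk q θ = g
      rw [hθ, show Ideal.Quotient.mk q x ^ N = (g : R ⧸ q) / m from hz, mul_div_cancel₀ _ hm]
    refine ⟨θ, hθI, fun h => g.ne_zero (by rw [← hθg]; exact Ideal.Quotient.eq_zero_iff_mem.2 h),
      fun σ hσ hσ' h => hσ' ((mem_inertia_iff q σ).2 fun r => ?_)⟩
    rcases eq_or_ne (π r) 0 with hr | hr
    · have hr' : r ∈ q := Ideal.Quotient.eq_zero_iff_mem.1 hr
      exact q.sub_mem ((mem_stab_iff q σ hσ r).2 hr') hr'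
    · obtain ⟨k, hk⟩ := Submonoid.mem_powers_iff _ _ |>.1
        (mem_powers_iff_mem_zpowers.2 (hg (Units.mk0 _ hr)))
      have hk' : π (θ ^ k) = π r := by
        rw [map_pow, hθg, ← Units.val_pow_eq_pow_val, hk, Units.val_mk0]
      have h3 : π (σ • θ ^ k) = π (σ • r) := by
        rw [Ideal.Quotient.eq, ← smul_sub, mem_stab_iff q σ hσ]
        exact Ideal.Quotient.eq.1 hk'
      rw [← Ideal.Quotient.eq]
      show π (σ • r) = π r
      rw [← h3, ← hk', smul_pow', map_pow, map_pow, show π (σ • θ) = π θ from Ideal.Quotient.eq.2 h]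
  · -- infinite residue ring: the image of the decomposition invariants is infinite
    have hF : (π '' {c | ∀ δ ∈ MulAction.stabilizer G q, δ • c = c}).Infinite := by
      intro hF
      let P : R → (R ⧸ q)[X] := fun x => (∏ δ : MulAction.stabilizer G q, (X - C (δ • x))).map π
      have hroot : ∀ x, (P x).IsRoot (π x) := fun x => by
        simp only [P, IsRoot.def, eval_map, eval₂_at_apply, eval_prod, eval_sub, eval_X, eval_C]
        rw [map_prod]
        exact Finset.prod_eq_zero (Finset.mem_univ 1) (by rw [one_smul, sub_self, map_zero])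
      have hcoeff : ∀ x i, (P x).coeff i ∈ π '' {c | ∀ δ ∈ MulAction.stabilizer G q, δ • c = c} := fun x i => by
        refine ⟨(∏ δ : MulAction.stabilizer G q, (X - C (δ • x))).coeff i, fun δ₀ hδ₀ => ?_,
          (coeff_map _ _).symm⟩
        have : (∏ δ : MulAction.stabilizer G q, (X - C (δ • x))).map (MulSemiringAction.toRingHom G R δ₀) =
            ∏ δ : MulAction.stabilizer G q, (X - C (δ • x)) := by
          simp only [Polynomial.map_prod, Polynomial.map_sub, map_X, map_C, MulSemiringAction.toRingHom_apply]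
          refine Fintype.prod_equiv (Equiv.mulLeft ⟨δ₀, hδ₀⟩) _ _ fun δ => ?_
          show X - C (δ₀ • (δ : G) • x) = X - C ((δ₀ * δ.1) • x)
          rw [mul_smul]
        simpa using congrArg (fun f : R[X] => f.coeff i) this
      let d := Fintype.card (MulAction.stabilizer G q)
      have hset : {f : (R ⧸ q)[X] | f.Monic ∧ f.natDegree = d ∧
          ∀ i, f.coeff i ∈ π '' {c | ∀ δ ∈ MulAction.stabilizer G q, δ • c = c}}.Finite := by
        haveI := hF.to_subtype
        refine Set.Finite.of_finite_image (f := fun f (i : Fin (d + 1)) => f.coeff i)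
          ((Set.Finite.pi (fun _ => hF)).subset (by rintro - ⟨f, hf, rfl⟩; exact fun i _ => hf.2.2 i)) ?_
        intro f hf g hg e
        ext i
        rcases Nat.lt_or_ge i (d + 1) with hi | hi
        · exact congrFun e ⟨i, hi⟩
        · rw [coeff_eq_zero_of_natDegree_lt (by rw [hf.2.1]; omega),
            coeff_eq_zero_of_natDegree_lt (by rw [hg.2.1]; omega)]
      refine Set.infinite_univ (α := R ⧸ q) (((hset.biUnion fun f hf =>
        finite_setOf_isRoot hf.1.ne_zero)).subset fun z _ => ?_)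
      obtain ⟨x, rfl⟩ := Ideal.Quotient.mk_surjective z
      refine Set.mem_iUnion₂.2 ⟨P x, ⟨?_, ?_, hcoeff x⟩, hroot x⟩
      · exact (monic_prod_of_monic _ _ fun δ _ => monic_X_sub_C _).map π
      · show (Polynomial.map π _).natDegree = d
        rw [(monic_prod_of_monic _ _ fun δ _ => monic_X_sub_C _).natDegree_map,
          natDegree_prod_of_monic _ _ fun δ _ => monic_X_sub_C _]
        haveI : Nontrivial R := ⟨⟨0, 1, fun h => Ideal.IsPrime.ne_top' (q.eq_top_iff_one.2 (h ▸ q.zero_mem))⟩⟩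
        simp [d, natDegree_X_sub_C]
    -- a general combination
    let J := {σ : G // σ ∈ MulAction.stabilizer G q ∧ σ ∉ q.inertia G}
    have hs : ∀ j : J, ∃ y ∈ FixedPoints.subring R (q.inertia G), j.1 • y - y ∉ q := fun j =>
      exists_moved q j.2.1 j.2.2
    choose s hsI hs' using hs
    let e := Fintype.equivFin J
    let v : (R → R) → (R ⧸ q)[X] := fun f =>
      ∑ j, C (π (f (s j))) * X ^ ((e j : ℕ) + 1)
    let p₀ : (R ⧸ q)[X] := 1 + v id
    let p : J → (R ⧸ q)[X] := fun i => v fun r => i.1 • r - r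
    have hp₀ : p₀ ≠ 0 := fun h => by simpa [p₀, v, coeff_X_pow] using congrArg (fun f : (R ⧸ q)[X] => f.coeff 0) h
    have hp : ∀ i, p i ≠ 0 := fun i h => hs' i (Ideal.Quotient.eq_zero_iff_mem.1 (by
      have h1 := congrArg (fun f : (R ⧸ q)[X] => f.coeff ((e i : ℕ) + 1)) h
      simp only [p, v, finset_sum_coeff, coeff_C_mul, coeff_X_pow, coeff_zero] at h1
      rw [Finset.sum_eq_single i (fun b _ hb => by rw [if_neg (fun hh => hb (e.injective (Fin.ext (by omega)))), mul_zero])
        (fun h => absurd (Finset.mem_univ i) h), if_pos rfl, mul_one] at h1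
      exact h1))
    obtain ⟨z, hz, hzb⟩ := (hF.diff ((finite_setOf_isRoot hp₀).union
      (Set.finite_iUnion fun i => finite_setOf_isRoot (hp i)))).nonempty
    obtain ⟨c, hc, rfl⟩ := hz
    have hcI : c ∈ FixedPoints.subring R (q.inertia G) := fun τ => hc τ.1 (Ideal.inertia_le_stabilizer q τ.2)
    let θ : R := 1 + ∑ j, s j * c ^ ((e j : ℕ) + 1)
    refine ⟨θ, Subring.add_mem _ (Subring.one_mem _) (Subring.sum_mem _ fun j _ =>
      Subring.mul_mem _ (hsI j) (Subring.pow_mem _ hcI _)), fun h => hzb (Or.inl ?_), fun σ hσ hσ' h => ?_⟩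
    · show p₀.eval (π c) = 0
      have := Ideal.Quotient.eq_zero_iff_mem.2 h
      simpa [θ, p₀, v, eval_finsetSum, π] using this
    · refine hzb (Or.inr (Set.mem_iUnion.2 ⟨⟨σ, hσ, hσ'⟩, ?_⟩))
      show (p ⟨σ, hσ, hσ'⟩).eval (π c) = 0
      have := Ideal.Quotient.eq_zero_iff_mem.2 h
      simpa [θ, p, v, eval_finsetSum, π, smul_add, smul_one, Finset.smul_sum, smul_mul', smul_pow', hc σ hσ,
        ← Finset.sum_sub_distrib, sub_mul] using this

/-- An inertia-invariant moved modulo `q` by everything outside inertia. -/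
theorem exists_theta : ∃ θ : R, θ ∈ FixedPoints.subring R (q.inertia G) ∧
    ∀ σ : G, σ ∉ q.inertia G → σ • θ - θ ∉ q := by
  obtain ⟨e, heq, heD, he⟩ := exists_e (G := G) q
  obtain ⟨θ₀, hI, hq0, h0⟩ := exists_theta0 (G := G) q
  refine ⟨θ₀ * e, Subring.mul_mem _ hI fun τ => heD τ.1 (Ideal.inertia_le_stabilizer q τ.2), fun σ hσ h => ?_⟩
  by_cases hD : σ ∈ MulAction.stabilizer G q
  · rw [smul_mul', heD σ hD, ← sub_mul] at h
    exact (Ideal.IsPrime.mem_or_mem ‹_› h).elim (h0 σ hD hσ) heq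
  · have h1 : σ • (θ₀ * e) ∈ q := by rw [smul_mul']; exact q.mul_mem_left _ (he σ hD)
    have h2 : θ₀ * e ∈ q := (q.sub_mem_iff_right h1).1 h
    exact (Ideal.IsPrime.mem_or_mem ‹_› h2).elim hq0 heq

end Groth.Agent.InertInv
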